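import Mathlib
import Groth.Agent.Lib.Helper7.UnrAt.MvPoly

/-! helper7: a finite type algebra is, near a prime, a quotient of a standard smooth algebra whose
relative dimension is the fibre dimension of the differentials at that prime. -/

set_option autoImplicit false
set_option linter.style.haveILetI false
set_option linter.unusedVariables false
set_option linter.unusedSectionVars false
universe u
open scoped TensorProduct

namespace Groth.Agent.Helper7.StdSmNbhd

open MvPolynomial in
/-- The polynomial algebra in `r` variables is standard smooth of relative dimension `r`. -/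
theorem mvPolynomial_stdSmooth (A : Type u) [CommRing A] (r : ℕ) :
    Algebra.IsStandardSmoothOfRelativeDimension r A (MvPolynomial (Fin r) A) := by
  classical
  let G : Algebra.Generators A (MvPolynomial (Fin r) A) (Fin r) :=
    Algebra.Generators.mvPolynomial A (Fin r)
  have hker : G.ker = ⊥ := Algebra.Generators.ker_mvPolynomial
  let P : Algebra.SubmersivePresentation A (MvPolynomial (Fin r) A) (Fin r) PEmpty.{1} :=
    { toGenerators := G
      relation := PEmpty.elim
      span_range_relation_eq_ker := by
        rw [hker]
        simp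
      map := PEmpty.elim
      map_inj := fun a => a.elim
      jacobian_isUnit := by
        rw [Algebra.PreSubmersivePresentation.jacobian_eq_jacobiMatrix_det]
        simp }
  refine P.isStandardSmoothOfRelativeDimension ?_
  simp [Algebra.Presentation.dimension]

theorem main (A B : Type u) [CommRing A] [CommRing B] [Algebra A B] [Algebra.FiniteType A B]
    (q : Ideal B) [q.IsPrime] (r : ℕ)
    (hr : Module.finrank q.ResidueField (q.ResidueField ⊗[B] Ω[B⁄A]) = r) :
    ∃ g : B, g ∉ q ∧ ∃ (D : Type u) (_ : CommRing D) (_ : Algebra A D),
      Algebra.IsStandardSmoothOfRelativeDimension r A D ∧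
        ∃ φ : D →ₐ[A] Localization.Away g, Function.Surjective φ := by
  obtain ⟨φ, hφ⟩ := UnrAt.main A B q r hr
  letI : Algebra (MvPolynomial (Fin r) A) B := φ.toRingHom.toAlgebra
  haveI : IsScalarTower A (MvPolynomial (Fin r) A) B :=
    IsScalarTower.of_algebraMap_eq (fun a => (φ.commutes a).symm)
  haveI : Algebra.FiniteType (MvPolynomial (Fin r) A) B :=
    Algebra.FiniteType.of_restrictScalars_finiteType A _ B
  haveI : Algebra.IsUnramifiedAt (MvPolynomial (Fin r) A) q := hφ
  obtain ⟨g, hg, Pr, ψ, hψ⟩ :=
    Algebra.IsUnramifiedAt.exists_hasStandardEtaleSurjectionOn (R := MvPolynomial (Fin r) A) q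
  letI algD : Algebra A Pr.Ring :=
    ((algebraMap (MvPolynomial (Fin r) A) Pr.Ring).comp
      (algebraMap A (MvPolynomial (Fin r) A))).toAlgebra
  haveI : IsScalarTower A (MvPolynomial (Fin r) A) Pr.Ring :=
    IsScalarTower.of_algebraMap_eq (fun a => rfl)
  haveI : IsScalarTower A (MvPolynomial (Fin r) A) (Localization.Away g) := by
    refine IsScalarTower.of_algebraMap_eq (fun a => ?_)
    rw [IsScalarTower.algebraMap_apply A B (Localization.Away g),
      IsScalarTower.algebraMap_apply (MvPolynomial (Fin r) A) B (Localization.Away g),
      ← IsScalarTower.algebraMap_apply A (MvPolynomial (Fin r) A) B]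
  haveI : Algebra.IsStandardSmoothOfRelativeDimension 0 (MvPolynomial (Fin r) A) Pr.Ring :=
    Algebra.Etale.iff_isStandardSmoothOfRelativeDimension_zero.mp inferInstance
  haveI := mvPolynomial_stdSmooth A r
  have h := Algebra.IsStandardSmoothOfRelativeDimension.trans (n := r) (m := 0) A
    (MvPolynomial (Fin r) A) Pr.Ring
  rw [zero_add] at h
  exact ⟨g, hg, Pr.Ring, inferInstance, algD, h, ψ.restrictScalars A, hψ⟩

end Groth.Agent.Helper7.StdSmNbhd
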